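import Groth.Agent.ExpSumLib.Rational

/-!
# Integrality of the exponents
-/

set_option autoImplicit false
set_option linter.unusedSectionVars false

noncomputable section

namespace Groth.Agent.ExpSumLib

open Polynomial

/-- The residues of a logarithmic derivative are integers. -/
theorem exists_int_of_logDeriv {ι : Type*} [DecidableEq ι] (s : Finset ι) (r a : ι → ℚ) (hr : ∀ i ∈ s, r i ≠ 0)
    (hinj : Set.InjOn r s) {P Q : ℚ[X]} (hP : P ≠ 0) (hQ : Q ≠ 0)
    (h : (derivative P * Q - P * derivative Q) * ∏ k ∈ s, (1 - C (r k) * X) =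
      P * Q * ∑ i ∈ s, C (a i * r i) * ∏ k ∈ s.erase i, (1 - C (r k) * X))
    {i : ι} (hi : i ∈ s) : ∃ z : ℤ, a i = z := by
  set ρ := (r i)⁻¹ with hρ
  obtain ⟨P₀, hP₀, hP₀'⟩ := exists_eq_pow_rootMultiplicity_mul_and_not_dvd P hP ρ
  obtain ⟨Q₀, hQ₀, hQ₀'⟩ := exists_eq_pow_rootMultiplicity_mul_and_not_dvd Q hQ ρ
  generalize P.rootMultiplicity ρ = m at hP₀
  generalize Q.rootMultiplicity ρ = n at hQ₀
  have hd : ∀ (R₀ : ℚ[X]) (l : ℕ), derivative ((X - C ρ) ^ l * R₀) * (X - C ρ) =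
      (X - C ρ) ^ l * (C (l : ℚ) * R₀ + (X - C ρ) * derivative R₀) := by
    intro R₀ l
    rw [derivative_mul, derivative_X_sub_C_pow]
    cases l with
    | zero => simp; ring
    | succ l => simp only [Nat.add_sub_cancel, pow_succ]; ring
  have hfac : (1 : ℚ[X]) - C (r i) * X = -C (r i) * (X - C ρ) := by
    rw [hρ]
    have : C (r i) * C (r i)⁻¹ = 1 := by rw [← C_mul, mul_inv_cancel₀ (hr i hi), C_1]
    linear_combination (-1 : ℚ[X]) * this
  rw [← Finset.mul_prod_erase _ _ hi, hfac] at h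
  set Pi := ∏ k ∈ s.erase i, (1 - C (r k) * X) with hPi
  have h2 : (X - C ρ) ^ (m + n) * (((C (m : ℚ) - C (n : ℚ)) * P₀ * Q₀ +
      (X - C ρ) * (derivative P₀ * Q₀ - P₀ * derivative Q₀)) * (-C (r i) * Pi)) =
      (X - C ρ) ^ (m + n) * (P₀ * Q₀ * ∑ j ∈ s, C (a j * r j) * ∏ k ∈ s.erase j, (1 - C (r k) * X)) := by
    have e1 := hd P₀ m
    have e2 := hd Q₀ n
    rw [← hP₀] at e1
    rw [← hQ₀] at e2
    rw [pow_add]
    calc _ = ((derivative P * (X - C ρ)) * Q - P * (derivative Q * (X - C ρ))) * (-C (r i) * Pi) := by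
          rw [e1, e2]; conv_rhs => rw [hP₀, hQ₀]
          ring
      _ = (derivative P * Q - P * derivative Q) * (-C (r i) * (X - C ρ) * Pi) := by ring
      _ = _ := by rw [h]; conv_lhs => rw [hP₀, hQ₀]
                  ring
  have h3 := congrArg (eval ρ) (mul_left_cancel₀ (pow_ne_zero _ (X_sub_C_ne_zero ρ)) h2)
  have hP1 : P₀.eval ρ ≠ 0 := fun h0 => hP₀' (dvd_iff_isRoot.2 h0)
  have hQ1 : Q₀.eval ρ ≠ 0 := fun h0 => hQ₀' (dvd_iff_isRoot.2 h0)
  have hPi1 : Pi.eval ρ ≠ 0 := by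
    rw [hPi, eval_prod, Finset.prod_ne_zero_iff]
    intro k hk h0
    simp only [eval_sub, eval_one, eval_mul, eval_C, eval_X, sub_eq_zero] at h0
    exact (Finset.mem_erase.1 hk).1 (hinj (Finset.mem_erase.1 hk).2 hi (by
      rw [hρ, eq_mul_inv_iff_mul_eq₀ (hr i hi), one_mul] at h0
      exact h0.symm))
  have hsum : ∀ j ∈ s, j ≠ i → (C (a j * r j) * ∏ k ∈ s.erase j, (1 - C (r k) * X)).eval ρ = 0 := by
    intro j _ hji
    rw [eval_mul, eval_prod, Finset.prod_eq_zero (Finset.mem_erase.2 ⟨fun e => hji e.symm, hi⟩), mul_zero]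
    simp [hρ, hr i hi]
  simp only [eval_mul, eval_add, eval_sub, eval_X, eval_C, eval_neg, sub_self, zero_mul, add_zero,
    eval_finsetSum] at h3
  rw [Finset.sum_eq_single_of_mem i hi fun j hj hji => by simpa [eval_mul] using hsum j hj hji,
    ← hPi] at h3
  refine ⟨(n : ℤ) - m, ?_⟩
  have h4 : (a i - ((n : ℚ) - m)) * (P₀.eval ρ * Q₀.eval ρ * r i * Pi.eval ρ) = 0 := by linear_combination -h3
  push_cast
  exact sub_eq_zero.1 ((mul_eq_zero.1 h4).resolve_right
    (mul_ne_zero (mul_ne_zero (mul_ne_zero hP1 hQ1) (hr i hi)) hPi1))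

theorem logDeriv_of_rational {S : PowerSeries ℚ} (hS : S.constantCoeff = 0) {P Q : ℚ[X]} (hQ : Q ≠ 0)
    (h : (PowerSeries.exp ℚ).subst S * (Q : PowerSeries ℚ) = (P : PowerSeries ℚ)) :
    P ≠ 0 ∧ ((P * Q : ℚ[X]) : PowerSeries ℚ) * PowerSeries.derivative ℚ S =
      ((derivative P * Q - P * derivative Q : ℚ[X]) : PowerSeries ℚ) := by
  have hs : PowerSeries.HasSubst S := PowerSeries.HasSubst.of_constantCoeff_zero' hS
  have hne : (PowerSeries.exp ℚ).subst S ≠ 0 := fun h0 => by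
    have := congrArg PowerSeries.constantCoeff h0
    rw [← sub_add_cancel (PowerSeries.exp ℚ) 1, ← PowerSeries.coe_substAlgHom hs, map_add, map_one, map_add,
      PowerSeries.coe_substAlgHom hs, map_zero, map_one] at this
    rw [show PowerSeries.constantCoeff (PowerSeries.subst S (PowerSeries.exp ℚ - 1)) = 0 from
      PowerSeries.constantCoeff_subst_eq_zero hS _ (by simp)] at this
    simp at this
  refine ⟨fun hP => ?_, ?_⟩
  · rw [hP, Polynomial.coe_zero, mul_eq_zero] at h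
    exact h.elim hne fun h0 => hQ (Polynomial.coe_eq_zero_iff.1 h0)
  · have h' := congrArg (PowerSeries.derivative ℚ) h
    rw [Derivation.leibniz, PowerSeries.derivative_subst hs, PowerSeries.derivative_exp,
      PowerSeries.derivative_coe, PowerSeries.derivative_coe, smul_eq_mul, smul_eq_mul] at h'
    simp only [Polynomial.coe_mul, Polynomial.coe_sub]
    linear_combination (Q : PowerSeries ℚ) * h' - ((PowerSeries.derivative ℚ) S * Q + Polynomial.derivative Q) * h

/-- The main criterion. -/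
theorem isLaurent_int_of_rational {F : RatFunc ℚ}
    (hF : GoodRoots F.denom) {q : ℚ} (hq : 1 < q)
    (hrat : ∃ P Q : ℚ[X], Q ≠ 0 ∧
      (PowerSeries.exp ℚ).subst
          (PowerSeries.mk fun v : ℕ => if v = 0 then (0 : ℚ)
            else F.eval (RingHom.id ℚ) (q ^ v) / (v : ℚ))
        * (Q : PowerSeries ℚ) = (P : PowerSeries ℚ)) :
    ∃ (P : Polynomial ℤ) (a : ℕ),
      F * RatFunc.X ^ a = algebraMap (Polynomial ℚ) (RatFunc ℚ) (P.map (Int.castRingHom ℚ)) := by
  classical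
  obtain ⟨P, Q, hQ, h⟩ := hrat
  set S := PowerSeries.mk fun v : ℕ => if v = 0 then (0 : ℚ) else F.eval (RingHom.id ℚ) (q ^ v) / (v : ℚ) with hSdef
  have hS : S.constantCoeff = 0 := by simp [hSdef, ← PowerSeries.coeff_zero_eq_constantCoeff_apply]
  obtain ⟨hP, hlog⟩ := logDeriv_of_rational hS hQ h
  have hS' : PowerSeries.derivative ℚ S = PowerSeries.mk fun n => F.eval (RingHom.id ℚ) (q ^ (n + 1)) := by
    ext n
    rw [PowerSeries.coeff_derivative, hSdef, PowerSeries.coeff_mk, PowerSeries.coeff_mk, if_neg (Nat.succ_ne_zero n)]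
    push_cast
    field_simp
  rw [hS'] at hlog
  obtain ⟨c, n₀, hc, hrec⟩ := exists_recurrence (mul_ne_zero hP hQ) hlog
  obtain ⟨a, ha⟩ := denom_eq_of_recurrence hF hq c hc (n₀ + 1) (fun n hn => by
    refine (Finset.sum_congr rfl fun j _ => ?_).trans (hrec (n - 1) (by omega))
    rw [PowerSeries.coeff_mk, show n - 1 + (j : ℕ) + 1 = n + j by omega])
  have hev : ∀ x : ℚ, x ≠ 0 → F.eval (RingHom.id ℚ) x = F.num.eval x / x ^ a := fun x _ => by
    rw [RatFunc.eval, eval₂_id, eval₂_id, ha, eval_pow, eval_X]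
  let r : ℕ → ℚ := fun i => q ^ ((i : ℤ) - (a : ℤ))
  have hq0 : q ≠ 0 := by linarith
  have hsum : (PowerSeries.mk fun n => F.eval (RingHom.id ℚ) (q ^ (n + 1))) *
      ((∏ k ∈ F.num.support, (1 - C (r k) * X) : ℚ[X]) : PowerSeries ℚ) =
      ((∑ i ∈ F.num.support, C (F.num.coeff i * r i) * ∏ k ∈ F.num.support.erase i, (1 - C (r k) * X) : ℚ[X]) :
        PowerSeries ℚ) := by
    have hgeo : ∀ t : ℚ, (PowerSeries.mk fun n => t ^ n) * ((1 - C t * X : ℚ[X]) : PowerSeries ℚ) = 1 := fun t => by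
      rw [Polynomial.coe_sub, Polynomial.coe_one, Polynomial.coe_mul, Polynomial.coe_C, Polynomial.coe_X]
      ext n
      cases n with
      | zero => simp [mul_sub]
      | succ n =>
        rw [mul_sub, mul_one, map_sub, ← mul_assoc, PowerSeries.coeff_succ_mul_X, PowerSeries.coeff_mul_C,
          PowerSeries.coeff_mk, PowerSeries.coeff_mk, PowerSeries.coeff_one, if_neg (Nat.succ_ne_zero n)]
        ring
    have hmk : (PowerSeries.mk fun n => F.eval (RingHom.id ℚ) (q ^ (n + 1))) =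
        ∑ i ∈ F.num.support, PowerSeries.C (F.num.coeff i * r i) * PowerSeries.mk fun n => r i ^ n := by
      ext n
      rw [PowerSeries.coeff_mk, map_sum, hev _ (pow_ne_zero _ hq0), eval_eq_sum, sum_def, Finset.sum_div]
      refine Finset.sum_congr rfl fun i _ => ?_
      rw [PowerSeries.coeff_C_mul, PowerSeries.coeff_mk, mul_assoc, mul_div_assoc]
      congr 1
      rw [← pow_succ', ← pow_mul, ← pow_mul]
      simp only [r]
      rw [← zpow_natCast, ← zpow_natCast, ← zpow_natCast, ← zpow_sub₀ hq0, ← zpow_mul]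
      congr 1
      push_cast
      ring
    rw [hmk, Finset.sum_mul]
    simp only [← Polynomial.coeToPowerSeries.ringHom_apply, map_sum]
    refine Finset.sum_congr rfl fun i hi => ?_
    rw [← Finset.mul_prod_erase _ _ hi]
    simp only [Polynomial.coeToPowerSeries.ringHom_apply, map_mul, Polynomial.coe_mul, Polynomial.coe_C]
    linear_combination (PowerSeries.C (F.num.coeff i) * PowerSeries.C (r i) *
      ((∏ k ∈ F.num.support.erase i, (1 - C (r k) * X) : ℚ[X]) : PowerSeries ℚ)) * hgeo (r i)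
  have hpoly : (derivative P * Q - P * derivative Q) * ∏ k ∈ F.num.support, (1 - C (r k) * X) =
      P * Q * ∑ i ∈ F.num.support, C (F.num.coeff i * r i) * ∏ k ∈ F.num.support.erase i, (1 - C (r k) * X) := by
    refine Polynomial.coe_injective ℚ ?_
    rw [Polynomial.coe_mul, ← hlog, Polynomial.coe_mul (φ := P * Q), mul_assoc, hsum]
  have hlift : F.num ∈ lifts (Int.castRingHom ℚ) := by
    rw [lifts_iff_coeff_lifts]
    intro i
    by_cases hi : i ∈ F.num.support
    · obtain ⟨z, hz⟩ := exists_int_of_logDeriv F.num.support r F.num.coeff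
        (fun k _ => zpow_ne_zero _ hq0)
        (fun x _ y _ e => by
          have := zpow_right_injective₀ (by linarith) hq.ne' e
          omega) hP hQ hpoly hi
      exact ⟨z, hz.symm⟩
    · exact ⟨0, by rw [notMem_support_iff.1 hi, map_zero]⟩
  obtain ⟨N, hN⟩ := (mem_lifts _).1 hlift
  refine ⟨N, a, ?_⟩
  rw [hN]
  conv_lhs => rw [← RatFunc.num_div_denom F, ha, map_pow, RatFunc.algebraMap_X]
  rw [div_mul_cancel₀ _ (pow_ne_zero _ RatFunc.X_ne_zero)]

end Groth.Agent.ExpSumLib
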