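import Mathlib

/-!
# Exponential sums with rational generating series
-/

set_option autoImplicit false
set_option linter.unusedSectionVars false

noncomputable section

namespace Groth.Agent.ExpSumLib

open Polynomial

/-- The denominators allowed: their complex roots are `0` or lie on the unit circle. -/
def GoodRoots (D : ℚ[X]) : Prop := ∀ z : ℂ, aeval z D = 0 → z = 0 ∨ ‖z‖ = 1

theorem GoodRoots.of_dvd {D D' : ℚ[X]} (h : GoodRoots D) (hd : D' ∣ D) : GoodRoots D' := fun z hz => h z (by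
  obtain ⟨c, rfl⟩ := hd
  rw [map_mul, hz, zero_mul])

theorem GoodRoots.mul {D D' : ℚ[X]} (h : GoodRoots D) (h' : GoodRoots D') : GoodRoots (D * D') := fun z hz => by
  rw [map_mul, mul_eq_zero] at hz
  exact hz.elim (h z) (h' z)

theorem goodRoots_one : GoodRoots 1 := fun z hz => by simp at hz

theorem goodRoots_denom {F : RatFunc ℚ}
    (hF : F ∈ Subring.closure
      (({RatFunc.X, (RatFunc.X : RatFunc ℚ)⁻¹} : Set (RatFunc ℚ)) ∪
        Set.range fun n : ℕ => ((RatFunc.X : RatFunc ℚ) ^ (n + 1) - 1)⁻¹)) :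
    GoodRoots F.denom := by
  induction hF using Subring.closure_induction with
  | mem x hx =>
    rcases hx with (rfl | rfl) | ⟨n, rfl⟩
    · rw [RatFunc.denom_X]; exact goodRoots_one
    · refine GoodRoots.of_dvd (D := X) (fun z hz => Or.inl (by simpa using hz)) ?_
      have := RatFunc.denom_div_dvd (K := ℚ) 1 X
      simpa using this
    · refine GoodRoots.of_dvd (D := X ^ (n + 1) - 1) (fun z hz => Or.inr ?_) ?_
      · have hz' : z ^ (n + 1) = 1 := by simpa [sub_eq_zero] using hz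
        exact Complex.norm_eq_one_of_pow_eq_one hz' (Nat.succ_ne_zero n)
      · have := RatFunc.denom_div_dvd (K := ℚ) 1 (X ^ (n + 1) - 1)
        simpa using this
  | zero => rw [RatFunc.denom_zero]; exact goodRoots_one
  | one => rw [RatFunc.denom_one]; exact goodRoots_one
  | add x y _ _ hx hy => exact (hx.mul hy).of_dvd (RatFunc.denom_add_dvd x y)
  | mul x y _ _ hx hy => exact (hx.mul hy).of_dvd (RatFunc.denom_mul_dvd x y)
  | neg x _ hx =>
    refine hx.of_dvd ?_
    rw [RatFunc.denom_dvd (RatFunc.denom_ne_zero x)]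
    exact ⟨-x.num, by rw [map_neg, neg_div, RatFunc.num_div_denom]⟩

/-- A finite linear recurrence among the values at the powers of `q`. -/
theorem denom_eq_of_recurrence {F : RatFunc ℚ} (hF : GoodRoots F.denom) {q : ℚ} (hq : 1 < q) {d : ℕ}
    (c : Fin (d + 1) → ℚ) (hc : c ≠ 0) (n₀ : ℕ)
    (h : ∀ n, n₀ ≤ n → ∑ j, c j * F.eval (RingHom.id ℚ) (q ^ (n + j : ℕ)) = 0) :
    ∃ a : ℕ, F.denom = X ^ a := by
  have hD : ∀ n : ℕ, 1 ≤ n → F.denom.eval (q ^ n) ≠ 0 := by
    intro n hn h0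
    have h1 : aeval ((q ^ n : ℚ) : ℂ) F.denom = 0 := by
      rw [show ((q ^ n : ℚ) : ℂ) = algebraMap ℚ ℂ (q ^ n) from (eq_ratCast _ _).symm,
        aeval_algebraMap_apply_eq_algebraMap_eval, h0, map_zero]
    have hgt : (1 : ℝ) < ((q ^ n : ℚ) : ℝ) := by exact_mod_cast one_lt_pow₀ hq (by omega)
    rcases hF _ h1 with h2 | h2
    · rw [Rat.cast_eq_zero] at h2
      rw [h2, Rat.cast_zero] at hgt
      linarith
    · rw [Complex.norm_ratCast, abs_of_pos (by linarith)] at h2
      linarith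
  let Nj : Fin (d + 1) → ℚ[X] := fun j => F.num.comp (C (q ^ (j : ℕ)) * X)
  let Dj : Fin (d + 1) → ℚ[X] := fun j => F.denom.comp (C (q ^ (j : ℕ)) * X)
  let Φ : ℚ[X] := ∑ j, C (c j) * Nj j * ∏ k ∈ Finset.univ.erase j, Dj k
  have hev : ∀ n : ℕ, 1 ≤ n → n₀ ≤ n → Φ.eval (q ^ n) = 0 := by
    intro n hn hn0
    have hDn : ∀ k, (Dj k).eval (q ^ n) = F.denom.eval (q ^ (n + k : ℕ)) := fun k => by
      simp [Dj, eval_comp, pow_add, mul_comm]
    have hNn : ∀ k, (Nj k).eval (q ^ n) = F.num.eval (q ^ (n + k : ℕ)) := fun k => by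
      simp [Nj, eval_comp, pow_add, mul_comm]
    have hkey : Φ.eval (q ^ n) =
        (∑ j, c j * F.eval (RingHom.id ℚ) (q ^ (n + j : ℕ))) * ∏ k, (Dj k).eval (q ^ n) := by
      rw [Finset.sum_mul]
      simp only [Φ, eval_finset_sum, eval_mul, eval_C, eval_prod]
      refine Finset.sum_congr rfl fun j _ => ?_
      rw [← Finset.mul_prod_erase _ _ (Finset.mem_univ j)]
      have : (Dj j).eval (q ^ n) ≠ 0 := by rw [hDn]; exact hD _ (by omega)
      simp only [RatFunc.eval, eval₂_id]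
      rw [hNn, hDn] at *
      field_simp
    rw [hkey, h n hn0, zero_mul]
  have hΦ : Φ = 0 := by
    refine eq_zero_of_infinite_isRoot _ (Set.Infinite.mono ?_ (Set.infinite_range_of_injective
      (f := fun n : ℕ => q ^ (n + n₀ + 1)) fun a b hab => ?_))
    · rintro _ ⟨n, rfl⟩
      exact hev _ (by omega) (by omega)
    · have := (pow_right_injective₀ (by linarith) hq.ne') hab
      omega
  obtain ⟨j₀, hj₀⟩ := Function.ne_iff.1 hc
  have hsum : C (c j₀) * Nj j₀ * ∏ k ∈ Finset.univ.erase j₀, Dj k =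
      -∑ j ∈ Finset.univ.erase j₀, C (c j) * Nj j * ∏ k ∈ Finset.univ.erase j, Dj k := by
    rw [eq_neg_iff_add_eq_zero, Finset.add_sum_erase _ (fun j => C (c j) * Nj j * ∏ k ∈ Finset.univ.erase j, Dj k)
      (Finset.mem_univ _)]
    exact hΦ
  have hdiv : Dj j₀ ∣ C (c j₀) * Nj j₀ * ∏ k ∈ Finset.univ.erase j₀, Dj k := by
    rw [hsum, dvd_neg]
    refine Finset.dvd_sum fun j hj => dvd_mul_of_dvd_right (Finset.dvd_prod_of_mem _ ?_) _
    exact Finset.mem_erase.2 ⟨(Finset.mem_erase.1 hj).1.symm, Finset.mem_univ _⟩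
  have hcop : IsCoprime (Dj j₀) (C (c j₀) * Nj j₀) := by
    exact (isCoprime_mul_unit_left_right (isUnit_C.2 (isUnit_iff_ne_zero.2 hj₀)) _ _).2
      ((RatFunc.isCoprime_num_denom F).map (compRingHom (C (q ^ (j₀ : ℕ)) * X))).symm
  have hdvd : Dj j₀ ∣ ∏ k ∈ Finset.univ.erase j₀, Dj k := hcop.dvd_of_dvd_mul_left hdiv
  have hroots : ∀ z : ℂ, aeval z F.denom = 0 → z = 0 := by
    intro z hz
    by_contra hz0
    have hz1 : ‖z‖ = 1 := (hF z hz).resolve_left hz0
    have hqC : (q : ℂ) ≠ 0 := Rat.cast_ne_zero.2 (by linarith)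
    have hw : ∀ k : Fin (d + 1), aeval (z / (q : ℂ) ^ (j₀ : ℕ)) (Dj k) =
        aeval (z * ((q : ℂ) ^ (k : ℕ) / (q : ℂ) ^ (j₀ : ℕ))) F.denom := fun k => by
      simp only [Dj, aeval_comp, map_mul, aeval_C, aeval_X, eq_ratCast, Rat.cast_pow]
      congr 1
      ring
    obtain ⟨u, hu⟩ := hdvd
    have h0 : aeval (z / (q : ℂ) ^ (j₀ : ℕ)) (∏ k ∈ Finset.univ.erase j₀, Dj k) = 0 := by
      rw [hu, map_mul, hw, div_self (pow_ne_zero _ hqC), mul_one, hz, zero_mul]
    rw [map_prod, Finset.prod_eq_zero_iff] at h0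
    obtain ⟨k, hk, hk0⟩ := h0
    rw [hw] at hk0
    rcases hF _ hk0 with h2 | h2
    · exact mul_ne_zero hz0 (div_ne_zero (pow_ne_zero _ hqC) (pow_ne_zero _ hqC)) h2
    · have hq' : (1 : ℝ) < (q : ℝ) := by exact_mod_cast hq
      rw [norm_mul, hz1, one_mul, norm_div, norm_pow, norm_pow, Complex.norm_ratCast, abs_of_pos (by linarith),
        div_eq_one_iff_eq (pow_ne_zero _ (by linarith))] at h2
      exact (Finset.mem_erase.1 hk).1 (Fin.ext ((pow_right_injective₀ (by linarith) hq'.ne') h2))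
  have hspl : (F.denom.map (algebraMap ℚ ℂ)).Splits := IsAlgClosed.splits _
  have hall : ∀ z ∈ (F.denom.map (algebraMap ℚ ℂ)).roots, z = (0 : ℂ) := fun z hz =>
    hroots z (by
      rw [mem_roots'] at hz
      simpa [aeval_def, eval_map] using hz.2)
  refine ⟨F.denom.natDegree, map_injective (algebraMap ℚ ℂ) (algebraMap ℚ ℂ).injective ?_⟩
  have hm := F.monic_denom.map (algebraMap ℚ ℂ)
  have hcard : (F.denom.map (algebraMap ℚ ℂ)).roots = Multiset.replicate F.denom.natDegree 0 := by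
    rw [Multiset.eq_replicate, ← hspl.natDegree_eq_card_roots, natDegree_map]
    exact ⟨rfl, hall⟩
  rw [Polynomial.map_pow, map_X, hspl.eq_prod_roots_of_monic hm, hcard]
  simp

/-- A power series annihilated up to a polynomial gives a recurrence of its coefficients. -/
theorem exists_recurrence {S : PowerSeries ℚ} {H W : ℚ[X]} (hH : H ≠ 0)
    (h : (H : PowerSeries ℚ) * S = (W : PowerSeries ℚ)) :
    ∃ (c : Fin (H.natDegree + 1) → ℚ) (n₀ : ℕ), c ≠ 0 ∧
      ∀ n, n₀ ≤ n → ∑ j, c j * PowerSeries.coeff (n + j : ℕ) S = 0 := by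
  refine ⟨fun j => H.coeff (H.natDegree - j), W.natDegree + 1, fun h0 => ?_, fun n hn => ?_⟩
  · have := congrFun h0 0
    simp at this
    exact hH this
  · have h1 := congrArg (PowerSeries.coeff (n + H.natDegree)) h
    rw [Polynomial.coeff_coe, coeff_eq_zero_of_natDegree_lt (by omega), PowerSeries.coeff_mul,
      Finset.Nat.sum_antidiagonal_eq_sum_range_succ_mk] at h1
    rw [← h1, Fin.sum_univ_eq_sum_range (fun j => H.coeff (H.natDegree - j) * PowerSeries.coeff (n + j) S),
      ← Finset.sum_range_reflect]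
    refine Finset.sum_subset_zero_on_sdiff (Finset.range_mono (by omega)) (fun i hi => ?_) (fun i hi => ?_)
    · simp only [Finset.mem_sdiff, Finset.mem_range] at hi
      rw [Polynomial.coeff_coe, coeff_eq_zero_of_natDegree_lt (by omega), zero_mul]
    · simp only [Finset.mem_range] at hi
      rw [Polynomial.coeff_coe]
      rw [show H.natDegree - (H.natDegree + 1 - 1 - i) = i by omega,
        show n + (H.natDegree + 1 - 1 - i) = n + H.natDegree - i by omega]

end Groth.Agent.ExpSumLib
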